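import Cfsg.Agent.Lib.Leech.Trans.Data

/-! Transitivity of the group of the code on short tuples, octads and dodecads. -/

set_option autoImplicit false

namespace CfsgLib.Leech.Trans

open Cfsg CfsgLib
open scoped Pointwise

/-- Base points. -/
def basePt : List ℕ := [23, 0, 1, 2, 3]

/-- Check of a list of generators fixing the first `k` base points. -/
def gensFixB (gens : List ℕ) (k : ℕ) : Bool :=
  gens.all fun T => okT T && (basePt.take k).all fun i => Nat.beq (img T i) i

/-- Check of a tree on the points outside the first `k` base points. -/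
def ptTreeB (tree : ℕ) (gens : List ℕ) (k : ℕ) : Bool :=
  gensFixB gens k && (List.range 24).all
    (entryB tree (basePt.getD k 0) (fun i => Nat.blt i 24 && (basePt.take k).all fun j => !Nat.beq i j)
      gens (fun T a b => Nat.beq (img T a) b))

theorem ptTree_checks :
    (ptTreeB ptTree0 gensAll 0 && ptTreeB ptTree1 gensFix1 1 && ptTreeB ptTree2 gensFix2 2 &&
      ptTreeB ptTree3 gensFix3 3 && ptTreeB ptTree4 gensFix4 4) = true := by
  decide +kernel

theorem exists_fixing {tree : ℕ} {gens : List ℕ} {k : ℕ} (h : ptTreeB tree gens k = true)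
    (hk : k < 5) (p : GolayPt) (hp : ∀ i ∈ basePt.take k, p ≠ Golay.pt i) :
    ∃ σ ∈ M24, (∀ i ∈ basePt.take k, σ (Golay.pt i) = Golay.pt i) ∧
      σ (Golay.pt (basePt.getD k 0)) = p := by
  simp only [ptTreeB, gensFixB, Bool.and_eq_true, List.all_eq_true, List.mem_range, Nat.beq_eq] at h
  obtain ⟨hg, hc⟩ := h
  have hlt : ∀ i ∈ basePt.take k, i < 24 := by
    intro i hi
    have := List.mem_of_mem_take hi
    simp [basePt] at this; omega
  have key := tree_sound
    (fun a b => ∃ σ ∈ M24, (∀ i ∈ basePt.take k, σ (Golay.pt i) = Golay.pt i) ∧ σ a = b)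
    (fun a => ⟨1, one_mem _, fun _ _ => rfl, rfl⟩)
    (fun a b c => fun ⟨s, hs, hsf, hsa⟩ ⟨t, ht, htf, hta⟩ =>
      ⟨t * s, mul_mem ht hs, fun i hi => by rw [Equiv.Perm.mul_apply, hsf i hi, htf i hi],
        by rw [Equiv.Perm.mul_apply, hsa, hta]⟩)
    Golay.pt 24 tree (basePt.getD k 0)
    (fun i => Nat.blt i 24 && (basePt.take k).all fun j => !Nat.beq i j) gens
    (fun T a b => Nat.beq (img T a) b)
    (fun x hx => by simp only [Bool.and_eq_true, Nat.blt_eq] at hx; exact hx.1)
    (fun T hT a b ha _ hs => by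
      obtain ⟨hok, hfix⟩ := hg T hT
      simp only [Bool.and_eq_true, Nat.blt_eq] at ha
      refine ⟨tblPerm T, tblPerm_mem hok, fun i hi => ?_, ?_⟩
      · rw [tblPerm_apply hok, tblFun, Golay.bit_pt (hlt i hi), hfix i hi]
      · rw [tblPerm_apply hok, tblFun, Golay.bit_pt ha.1, Nat.eq_of_beq_eq_true hs])
    hc (Golay.bit p) ?_
  · rwa [Golay.pt_bit] at key
  · simp only [Bool.and_eq_true, Nat.blt_eq, List.all_eq_true, Bool.not_eq_true']
    refine ⟨Golay.bit_lt p, fun j hj => ?_⟩
    rw [Bool.eq_false_iff]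
    intro hb
    exact hp j hj (by rw [← Nat.eq_of_beq_eq_true hb, Golay.pt_bit])

theorem exists_map_base : ∀ k ≤ 5, ∀ l : List GolayPt, l.Nodup → l.length = k →
    ∃ σ ∈ M24, (basePt.take k).map (fun i => σ (Golay.pt i)) = l := by
  intro k
  induction k with
  | zero =>
    intro _ l _ hl
    exact ⟨1, one_mem _, by rw [List.length_eq_zero_iff.1 hl]; rfl⟩
  | succ k ih =>
    intro hk l hnd hl
    have hne : l ≠ [] := by intro h; simp [h] at hl
    have e := (List.dropLast_append_getLast hne).symm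
    obtain ⟨σ, hσ, hmap⟩ := ih (by omega) l.dropLast (hnd.sublist (List.dropLast_sublist l))
      (by simp [hl])
    have hnot : ∀ i ∈ basePt.take k, σ⁻¹ (l.getLast hne) ≠ Golay.pt i := by
      intro i hi hc
      have hmem : l.getLast hne ∈ l.dropLast := by
        rw [← hmap, List.mem_map]
        refine ⟨i, hi, ?_⟩
        rw [← hc, Equiv.Perm.coe_inv, Equiv.apply_symm_apply]
      rw [e] at hnd
      exact (List.nodup_append'.1 hnd).2.2 hmem (List.mem_singleton_self _)
    have hchk := ptTree_checks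
    simp only [Bool.and_eq_true] at hchk
    obtain ⟨τ, hτ, hfix, hτk⟩ : ∃ τ ∈ M24, (∀ i ∈ basePt.take k, τ (Golay.pt i) = Golay.pt i) ∧
        τ (Golay.pt (basePt.getD k 0)) = σ⁻¹ (l.getLast hne) := by
      rcases k with _ | _ | _ | _ | _ | k
      · exact exists_fixing hchk.1.1.1.1 (by omega) _ hnot
      · exact exists_fixing hchk.1.1.1.2 (by omega) _ hnot
      · exact exists_fixing hchk.1.1.2 (by omega) _ hnot
      · exact exists_fixing hchk.1.2 (by omega) _ hnot
      · exact exists_fixing hchk.2 (by omega) _ hnot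
      · omega
    refine ⟨σ * τ, mul_mem hσ hτ, ?_⟩
    have hlen : k < basePt.length := by simp [basePt]; omega
    rw [List.take_succ_eq_append_getElem hlen, List.map_append, List.map_singleton,
      ← List.getD_eq_getElem _ 0 hlen]
    conv_rhs => rw [e]
    congr 1
    · rw [← hmap]
      exact List.map_congr_left fun i hi => by rw [Equiv.Perm.mul_apply, hfix i hi]
    · rw [Equiv.Perm.mul_apply, hτk, Equiv.Perm.coe_inv, Equiv.apply_symm_apply]

/-- Check of a tree on the code words of weight `w` avoiding the mask `F`. -/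
def codeTreeB (tree root : ℕ) (gens : List ℕ) (w F : ℕ) : Bool :=
  gens.all (fun T => okT T && Nat.beq (imgMask T F) F) &&
    Golay.allR (entryB tree root
      (fun x => Nat.blt x 4096 && Nat.beq (Golay.pc24 (Golay.comb x)) w &&
        Nat.beq (Nat.land (Golay.comb x) F) 0)
      gens (fun T a b => Nat.beq (imgMask T (Golay.comb a)) (Golay.comb b))) 12 0

theorem codeTree_sound {tree root : ℕ} {gens : List ℕ} {w F : ℕ}
    (h : codeTreeB tree root gens w F = true) {s : Finset GolayPt}
    (hs : s ∈ wordsOfWeight (golayCode : Set (GolayPt → ZMod 2)) w)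
    (hF : Disjoint s (Golay.toSet F)) :
    ∃ σ ∈ M24, σ • Golay.toSet F = Golay.toSet F ∧ σ • Golay.toSet (Golay.comb root) = s := by
  simp only [codeTreeB, Bool.and_eq_true, List.all_eq_true, Nat.beq_eq] at h
  obtain ⟨hg, hc⟩ := h
  obtain ⟨x, hx, hw, rfl⟩ := Golay.mem_wordsOfWeight_iff.1 hs
  refine tree_sound
    (fun a b => ∃ σ ∈ M24, σ • Golay.toSet F = Golay.toSet F ∧ σ • a = b)
    (fun a => ⟨1, one_mem _, one_smul _ _, one_smul _ _⟩)
    (fun a b c => fun ⟨u, hu, huf, hua⟩ ⟨t, ht, htf, hta⟩ =>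
      ⟨t * u, mul_mem ht hu, by rw [mul_smul, huf, htf], by rw [mul_smul, hua, hta]⟩)
    (fun x => Golay.toSet (Golay.comb x)) 4096 tree root _ gens _ (fun y hy => by
      simp only [Bool.and_eq_true, Nat.blt_eq] at hy; exact hy.1.1)
    (fun T hT a b _ _ hstep => ?_)
    (fun y hy => Golay.allR_spec hc y (Nat.zero_le _) (by simpa using hy)) x ?_
  · obtain ⟨hok, hfix⟩ := hg T hT
    refine ⟨tblPerm T, tblPerm_mem hok, ?_, ?_⟩
    · rw [smul_toSet hok, hfix]
    · rw [smul_toSet hok, Nat.eq_of_beq_eq_true hstep]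
  · simp only [Bool.and_eq_true, Nat.blt_eq, Nat.beq_eq, Golay.pc24_eq]
    refine ⟨⟨by simpa using hx, hw⟩, ?_⟩
    refine Nat.eq_of_testBit_eq fun i => ?_
    rw [Nat.zero_testBit]
    by_contra hc'
    rw [Bool.not_eq_false] at hc'
    have hc2 : (Golay.comb x).testBit i = true ∧ F.testBit i = true := by
      rw [show Nat.land (Golay.comb x) F = Golay.comb x &&& F from rfl, Nat.testBit_and,
        Bool.and_eq_true] at hc'
      exact hc'
    have hi : i < 24 := by
      by_contra h24
      rw [Nat.testBit_lt_two_pow (lt_of_lt_of_le (Golay.comb_lt hx)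
        (Nat.pow_le_pow_right two_pos (not_lt.1 h24)))] at hc2
      exact Bool.false_ne_true hc2.1
    exact Finset.disjoint_left.1 hF (Golay.mem_toSet.2 (by rw [Golay.bit_pt hi]; exact hc2.1))
      ((Golay.mem_toSet (p := Golay.pt i)).2 (by rw [Golay.bit_pt hi]; exact hc2.2))

theorem octad_checks :
    codeTreeB codeTree0 codeRoot0 gensAll 8 0 = true ∧
      codeTreeB codeTree1 codeRoot1 gensFix1 8 8388608 = true ∧
      codeTreeB codeTree2 codeRoot2 gensPair 8 8388609 = true := by
  decide +kernel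

theorem dodecad_checks :
    codeTreeB codeTree3 codeRoot3 gensAll 12 0 = true ∧
      codeTreeB codeTree4 codeRoot4 gensFix1 12 8388608 = true := by
  decide +kernel

end CfsgLib.Leech.Trans
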