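import Cfsg.Agent.Lib.Leech.Check

/-! Schreier trees checked in the kernel: coded permutations of the points and soundness. -/

set_option autoImplicit false

namespace CfsgLib.Leech.Trans

open Cfsg CfsgLib
open scoped Pointwise

/-- Image of a point number under a coded permutation. -/
def img (T i : ℕ) : ℕ := Nat.land (Nat.shiftRight T (Nat.mul 5 i)) 31

/-- The coded map on points. -/
def tblFun (T : ℕ) (p : GolayPt) : GolayPt := Golay.pt (img T (Golay.bit p))

open scoped Classical in
/-- The coded permutation (the identity for invalid codes). -/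
noncomputable def tblPerm (T : ℕ) : Equiv.Perm GolayPt :=
  if h : Function.Bijective (tblFun T) then Equiv.ofBijective (tblFun T) h else 1

/-- Image of a mask. -/
def imgMask (T M : ℕ) : ℕ :=
  (List.range 24).foldl (fun acc i => bif M.testBit i then acc ||| 2 ^ img T i else acc) 0

/-- Validity of a code. -/
def okT (T : ℕ) : Bool :=
  (List.range 24).all (fun i => Nat.blt (img T i) 24) &&
    Nat.beq (imgMask T 16777215) 16777215 && m24B (tblFun T)

theorem testBit_imgMask (T M j : ℕ) :
    (imgMask T M).testBit j = true ↔ ∃ i < 24, M.testBit i = true ∧ img T i = j := by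
  have h : ∀ (l : List ℕ) (a : ℕ),
      (l.foldl (fun acc i => bif M.testBit i then acc ||| 2 ^ img T i else acc) a).testBit j = true ↔
        a.testBit j = true ∨ ∃ i ∈ l, M.testBit i = true ∧ img T i = j := by
    intro l
    induction l with
    | nil => intro a; simp
    | cons k l ih =>
      intro a
      rw [List.foldl_cons, ih]
      cases hk : M.testBit k
      · simp [hk]
      · simp only [cond_true, Nat.testBit_or, Bool.or_eq_true, Nat.testBit_two_pow, decide_eq_true_eq,
          List.mem_cons, exists_eq_or_imp, hk, true_and]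
        simp only [or_and_right, exists_or, exists_eq_left, hk, true_and, or_assoc]
  rw [imgMask, h]
  simp [List.mem_range]

theorem imgMask_lt {T : ℕ} (h : okT T = true) (M : ℕ) : imgMask T M < 2 ^ 24 := by
  refine Nat.lt_pow_two_of_testBit _ fun j hj => ?_
  by_contra hc
  obtain ⟨i, hi, -, rfl⟩ := (testBit_imgMask T M j).1 (by simpa using hc)
  simp only [okT, Bool.and_eq_true, List.all_eq_true, List.mem_range, Nat.blt_eq] at h
  have := h.1.1 i hi; omega

theorem tblFun_bijective {T : ℕ} (h : okT T = true) : Function.Bijective (tblFun T) := by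
  refine Finite.surjective_iff_bijective.1 fun p => ?_
  simp only [okT, Bool.and_eq_true, Nat.beq_eq] at h
  have hb : (16777215 : ℕ).testBit (Golay.bit p) = true := by revert p; decide +kernel
  rw [← h.1.2, testBit_imgMask] at hb
  obtain ⟨i, hi, -, he⟩ := hb
  refine ⟨Golay.pt i, ?_⟩
  rw [tblFun, Golay.bit_pt hi, he, Golay.pt_bit]

theorem tblPerm_apply {T : ℕ} (h : okT T = true) (p : GolayPt) : tblPerm T p = tblFun T p := by
  rw [tblPerm, dif_pos (tblFun_bijective h)]; rfl

theorem tblPerm_mem {T : ℕ} (h : okT T = true) : tblPerm T ∈ M24 := by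
  refine mem_M24_of_m24B _ ?_
  have e : (⇑(tblPerm T)) = tblFun T := funext (tblPerm_apply h)
  rw [e]
  simp only [okT, Bool.and_eq_true] at h
  exact h.2

theorem smul_toSet {T : ℕ} (h : okT T = true) (M : ℕ) :
    tblPerm T • Golay.toSet M = Golay.toSet (imgMask T M) := by
  have hlt : ∀ i < 24, img T i < 24 := by
    have h' := h
    simp only [okT, Bool.and_eq_true, List.all_eq_true, List.mem_range, Nat.blt_eq] at h'
    exact h'.1.1
  ext p
  rw [Finset.mem_smul_finset, Golay.mem_toSet, testBit_imgMask]
  constructor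
  · rintro ⟨q, hq, rfl⟩
    refine ⟨Golay.bit q, Golay.bit_lt q, Golay.mem_toSet.1 hq, ?_⟩
    rw [Equiv.Perm.smul_def, tblPerm_apply h, tblFun, Golay.bit_pt (hlt _ (Golay.bit_lt q))]
  · rintro ⟨i, hi, hM, he⟩
    refine ⟨Golay.pt i, Golay.mem_toSet.2 (by rwa [Golay.bit_pt hi]), ?_⟩
    rw [Equiv.Perm.smul_def, tblPerm_apply h, tblFun, Golay.bit_pt hi, he, Golay.pt_bit]

/-- Fields of a tree entry. -/
def parOf (t x : ℕ) : ℕ := Nat.land (Nat.shiftRight t (Nat.mul 24 x)) 4095
/-- The generator field. -/
def genOf (t x : ℕ) : ℕ := Nat.land (Nat.shiftRight t (Nat.add (Nat.mul 24 x) 12)) 15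
/-- The depth field. -/
def depOf (t x : ℕ) : ℕ := Nat.land (Nat.shiftRight t (Nat.add (Nat.mul 24 x) 16)) 255

/-- The check of one entry. -/
def entryB (tree root : ℕ) (P : ℕ → Bool) (gens : List ℕ) (step : ℕ → ℕ → ℕ → Bool) (x : ℕ) : Bool :=
  !P x || Nat.beq x root ||
    (P (parOf tree x) && Nat.blt (depOf tree (parOf tree x)) (depOf tree x) &&
      Nat.blt (genOf tree x) gens.length &&
      step (gens.getD (genOf tree x) 0) (parOf tree x) x)

theorem tree_sound {β : Type*} (R : β → β → Prop) (hrefl : ∀ a, R a a)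
    (htrans : ∀ a b c, R a b → R b c → R a c) (obj : ℕ → β) (n tree root : ℕ) (P : ℕ → Bool)
    (gens : List ℕ) (step : ℕ → ℕ → ℕ → Bool) (hP : ∀ x, P x = true → x < n)
    (hstep : ∀ T ∈ gens, ∀ a b, P a = true → P b = true → step T a b = true → R (obj a) (obj b))
    (hchk : ∀ x < n, entryB tree root P gens step x = true) :
    ∀ x, P x = true → R (obj root) (obj x) := by
  suffices ∀ d x, depOf tree x = d → P x = true → R (obj root) (obj x) from fun x => this _ x rfl
  intro d
  induction d using Nat.strong_induction_on with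
  | _ d ih =>
    intro x hd hx
    have h := hchk x (hP x hx)
    simp only [entryB, Bool.or_eq_true, Bool.and_eq_true, Bool.not_eq_true', Nat.beq_eq,
      Nat.blt_eq] at h
    rcases h with (h | h) | ⟨⟨⟨hp, hd'⟩, hg⟩, hs⟩
    · rw [h] at hx; exact absurd hx Bool.false_ne_true
    · rw [h]; exact hrefl _
    · refine htrans _ _ _ (ih _ (hd ▸ hd') _ rfl hp) (hstep _ ?_ _ _ hp hx hs)
      rw [List.getD_eq_getElem _ _ hg]
      exact List.getElem_mem hg

end CfsgLib.Leech.Trans
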